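import Mathlib
import Cfsg.Agent.H686.CharKit
import Cfsg.Agent.Characters.SchurBound
import Cfsg.Agent.Characters.GaloisBasic
import Cfsg.Agent.FastGrp
import Cfsg.Agent.Prune
set_option linter.all false
prune_inst 0x7f00000000000000000000000000000000000000000000000000000000000000000000000000000000000000000000000000000000000000000000000000000000000000000000000000000000000000003fffffffffffffffffffffffffffbeffbdffffffff
open scoped Cfsg.Agent.FastGrp

/-!
# Characters and rational self-centralizing subgroups of prime order (helper755)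

* `isConj_of_card` : if `|U| = r` is prime, `C(U) = U` and `|N(U)| = r (r - 1)` then the nontrivial elements of `U` are
  conjugate;
* `rat_val` : then `χ(1) = a + (r - 1) b`, `χ(u) = a - b`.
-/

set_option autoImplicit false

universe u

namespace Cfsg.Agent.H755.Leo

open Subgroup Cfsg
open scoped ComplexConjugate

variable {G : Type u} [Group G] [Finite G]

theorem isConj_of_card {r : ℕ} (hr : r.Prime) {U : Subgroup G} (hU : Nat.card U = r)
    (hC : centralizer (U : Set G) ≤ U) (hN : Nat.card ↥(normalizer (U : Set G)) = r * (r - 1)) {u v : G}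
    (hu : u ∈ U) (hu1 : u ≠ 1) (hv : v ∈ U) (hv1 : v ≠ 1) : IsConj u v := by
  classical
  have hUu : zpowers u = U := by
    have h1 : zpowers u ≤ U := by rwa [zpowers_le]
    have h2 : Nat.card (zpowers u) ∣ r := by rw [← hU]; exact card_dvd_of_le h1
    rcases (Nat.dvd_prime hr).1 h2 with h3 | h3
    · exfalso
      apply hu1
      have : zpowers u = ⊥ := Subgroup.card_eq_one.1 h3
      rwa [zpowers_eq_bot] at this
    · exact Subgroup.eq_of_le_of_card_ge h1 (by rw [h3, hU])
  -- the orbit map
  let N := normalizer (U : Set G)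
  have hmem : ∀ n : N, (n : G) * u * (n : G)⁻¹ ∈ U := fun n => (mem_normalizer_iff.1 n.2 u).1 hu
  let f : N → {w : U // w ≠ 1} := fun n => ⟨⟨(n : G) * u * (n : G)⁻¹, hmem n⟩, fun h => hu1 (by
    have h1 : (n : G) * u * (n : G)⁻¹ = 1 := congrArg Subtype.val h
    exact conj_eq_one_iff.1 h1)⟩
  have hfib : ∀ n m : N, f n = f m → (m : G)⁻¹ * n ∈ U := by
    intro n m h
    have h1 : (n : G) * u * (n : G)⁻¹ = (m : G) * u * (m : G)⁻¹ :=
      congrArg (fun w : {w : U // w ≠ 1} => ((w : U) : G)) h
    apply hC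
    rw [← hUu]
    intro w hw
    obtain ⟨k, rfl⟩ := mem_zpowers_iff.1 hw
    have h2 : (m : G)⁻¹ * n * u = u * ((m : G)⁻¹ * n) := by
      calc (m : G)⁻¹ * n * u = (m : G)⁻¹ * ((n : G) * u * (n : G)⁻¹) * n := by group
        _ = (m : G)⁻¹ * ((m : G) * u * (m : G)⁻¹) * n := by rw [h1]
        _ = u * ((m : G)⁻¹ * n) := by group
    exact (show Commute ((m : G)⁻¹ * n) u from h2).zpow_right k |>.symm
  have hsurj : Function.Surjective f := by
    -- count
    have hcard : Nat.card {w : U // w ≠ 1} = r - 1 := by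
      have : Fintype U := Fintype.ofFinite U
      have h1 := Nat.card_eq_fintype_card (α := {w : U // w ≠ 1})
      rw [h1, Fintype.card_subtype_compl, Fintype.card_subtype_eq, ← Nat.card_eq_fintype_card, hU]
    have hle : Nat.card N ≤ Nat.card (Set.range f) * r := by
      have h1 : Function.Injective (fun n : N => ((⟨f n, ⟨n, rfl⟩⟩ : Set.range f),
          (⟨((Classical.choose (⟨n, rfl⟩ : ∃ m, f m = f n) : N) : G)⁻¹ * n,
            hfib n _ (Classical.choose_spec (⟨n, rfl⟩ : ∃ m, f m = f n)).symm⟩ : U))) := by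
        intro n m h
        have h2 : f n = f m := congrArg Subtype.val (congrArg Prod.fst h)
        have h3 := congrArg Subtype.val (congrArg Prod.snd h)
        have h4 : (Classical.choose (⟨n, rfl⟩ : ∃ m, f m = f n) : N) =
            Classical.choose (⟨m, rfl⟩ : ∃ m', f m' = f m) := by
          congr 1
          funext x
          rw [h2]
        simp only [h4] at h3
        exact Subtype.ext (mul_left_cancel h3)
      have h2 := Nat.card_le_card_of_injective _ h1
      rwa [Nat.card_prod, hU] at h2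
    have hN' : Nat.card N = r * (r - 1) := hN
    rw [hN', mul_comm] at hle
    have h2 := Nat.le_of_mul_le_mul_right hle hr.pos
    have h3 : Set.range f = Set.univ := by
      apply Set.eq_of_subset_of_ncard_le (Set.subset_univ _)
      rw [Set.ncard_univ, hcard, ← Nat.card_coe_set_eq]
      exact h2
    exact Set.range_eq_univ.1 h3
  obtain ⟨n, hn⟩ := hsurj ⟨⟨v, hv⟩, fun h => hv1 (congrArg Subtype.val h)⟩
  exact isConj_iff.2 ⟨n, congrArg (fun w : {w : U // w ≠ 1} => ((w : U) : G)) hn⟩

/-- the values of a character on `U` -/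
theorem rat_val {r : ℕ} (hr : r.Prime) {u : G} (hu : orderOf u = r) {χ : G → ℂ} (hχ : IsCharacter G χ)
    (hconj : ∀ i, 0 < i → i < r → IsConj u (u ^ i)) {d : ℕ} (hd : χ 1 = d) :
    ∃ a b : ℕ, d = a + (r - 1) * b ∧ χ u = (a : ℂ) - b := by
  obtain ⟨a, had, ha⟩ := Cfsg.Agent.Characters.SchurBound.exists_sum_range hχ hd u
  have hcl := Cfsg.Agent.Characters.Core.isCharacter_isClassFunction hχ
  have h1 : ∑ i ∈ Finset.range (orderOf u), χ (u ^ i) = d + ((r : ℂ) - 1) * χ u := by
    rw [hu]
    obtain ⟨s, hs⟩ : ∃ s, r = s + 1 := ⟨r - 1, by have := hr.pos; omega⟩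
    rw [hs, Finset.sum_range_succ', pow_zero, hd]
    have h2 : ∀ i ∈ Finset.range s, χ (u ^ (i + 1)) = χ u := by
      intro i hi
      rw [Finset.mem_range] at hi
      have h3 := hconj (i + 1) (by omega) (by omega)
      obtain ⟨g, hg⟩ := isConj_iff.1 h3
      rw [← hg]
      exact hcl u g
    rw [Finset.sum_congr rfl h2, Finset.sum_const, Finset.card_range, nsmul_eq_mul]
    push_cast
    ring
  rw [h1, hu] at ha
  have hr1 : (r : ℂ) - 1 ≠ 0 := by
    have := hr.one_lt
    rw [sub_ne_zero]
    exact_mod_cast this.ne'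
  obtain ⟨k, hk⟩ := Cfsg.Agent.Characters.GaloisBasic.exists_int_of_rat hχ u
    ⟨((r : ℚ) * a - d) / (r - 1), by
      push_cast
      rw [eq_div_iff hr1]
      linear_combination ha⟩
  rw [hk] at ha
  have h2 : (d : ℤ) + (r - 1) * k = r * a := by exact_mod_cast ha
  have h3 : (d : ℤ) = a + (r - 1) * (a - k) := by linarith
  have hr2 : (0 : ℤ) < (r : ℤ) - 1 := by
    have := hr.one_lt
    omega
  have h4 : 0 ≤ (a : ℤ) - k := by
    by_contra hlt
    push Not at hlt
    have h5 : ((r : ℤ) - 1) * (a - k) < 0 := mul_neg_of_pos_of_neg hr2 hlt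
    have h6 : (a : ℤ) ≤ d := by exact_mod_cast had
    linarith
  refine ⟨a, ((a : ℤ) - k).toNat, ?_, ?_⟩
  · have h5 : ((((a : ℤ) - k).toNat : ℕ) : ℤ) = a - k := Int.toNat_of_nonneg h4
    have h6 : ((r - 1 : ℕ) : ℤ) = (r : ℤ) - 1 := by
      rw [Nat.cast_sub hr.pos]
      simp
    have : ((d : ℕ) : ℤ) = ((a + (r - 1) * ((a : ℤ) - k).toNat : ℕ) : ℤ) := by
      rw [Nat.cast_add, Nat.cast_mul, h6, h5]
      exact h3
    exact_mod_cast this
  · have h5 : ((((a : ℤ) - k).toNat : ℕ) : ℤ) = a - k := Int.toNat_of_nonneg h4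
    have h6 : ((((a : ℤ) - k).toNat : ℕ) : ℂ) = (a : ℂ) - k := by exact_mod_cast h5
    rw [h6, hk]
    ring

/-- column orthogonality for one irreducible character -/
theorem normSq_le {χ : G → ℂ} (hχ : IsIrrCharacter G χ) (g : G) :
    Complex.normSq (χ g) ≤ Nat.card (centralizer ({g} : Set G)) := by
  have : Fintype (IrrCharacter G) := by
    have := Cfsg.Agent.Characters.Core.finite_irr (G := G)
    exact Fintype.ofFinite _
  rw [← Cfsg.Agent.H686.CharKit.sum_normSq g]
  exact Finset.single_le_sum (f := fun χ : IrrCharacter G => Complex.normSq ((χ : G → ℂ) g))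
    (fun _ _ => Complex.normSq_nonneg _) (Finset.mem_univ (⟨χ, hχ⟩ : IrrCharacter G))

end Cfsg.Agent.H755.Leo
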